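import Groth.Agent.Amp73.Ample
import Groth.Agent.EGA73.TwistInvertible
import Groth.Agent.EGA73.ProjMorph

/-!
`O(N)` is ample when finitely many `D₊` of degree `N > 0` cover `Proj` (after `Amp73.ProjAmple`, which is degree one).
-/

universe u

open CategoryTheory CategoryTheory.Limits AlgebraicGeometry Opposite TopologicalSpace GrTilde

noncomputable section

namespace Groth.Agent.TwistGen95

open Amp73 Var76.LineBundle Var76.ZeroScheme EGA73

variable {R A : Type u} [CommRing R] [CommRing A] [Algebra R A] {𝒜 : ℕ → Submodule R A} [GradedAlgebra 𝒜] {N : ℕ}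

variable (𝒜) in
/-- The section of `O(N)` given by an element of degree `N`. -/
def degHom (f : 𝒜 N) : Coh.structureModule (Proj 𝒜) ⟶ Twist.twist 𝒜 (N : ℤ) :=
  Var76.Frames.ofSection (Twist.twist 𝒜 (N : ℤ)) (Twist.globalOf 𝒜 f : Twist.sectN (𝒜 := 𝒜) (N : ℤ) (op ⊤))

theorem val_degHom (f : 𝒜 N) (U : (Proj 𝒜).Opens) (x : U) :
    (((val _ (degHom 𝒜 f) U : Twist.sectN (𝒜 := 𝒜) (N : ℤ) (op U)).1 x).1 : Twist.Loc 𝒜 x.1) =
      Localization.mk (f : A) (1 : x.1.asHomogeneousIdeal.toIdeal.primeCompl) := by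
  rw [degHom, Var76.Frames.val_ofSection]
  rfl

theorem isFrame_degHom (f : 𝒜 N) :
    IsFrame (Twist.twist 𝒜 (N : ℤ)) (Proj.basicOpen 𝒜 (f : A))
      (val _ (degHom 𝒜 f) (Proj.basicOpen 𝒜 (f : A))) := by
  let U : Opens (ProjectiveSpectrum.top 𝒜) := ProjectiveSpectrum.basicOpen 𝒜 (f : A)
  let e : TwistUnit (𝒜 := 𝒜) (N : ℤ) U :=
    { fwd := val _ (degHom 𝒜 f) (Proj.basicOpen 𝒜 (f : A))
      bwd := castTwist (by simp) (EGA73.powUnit 𝒜 f.2 (-1)).fwd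
      mul_eq := fun x => by
        rw [val_degHom, castTwist_apply]
        show _ * Localization.mk _ _ = 1
        rw [Localization.mk_mul, ← Localization.mk_self (1 : x.1.asHomogeneousIdeal.toIdeal.primeCompl),
          Localization.mk_eq_mk_iff, Localization.r_iff_exists]
        exact ⟨1, by simp⟩ }
  exact fun V hV => smul_unit_bijective (e.res hV)

theorem genLocus_degHom
    (hcov : ∀ x : ProjectiveSpectrum 𝒜, ∃ g ∈ 𝒜 N, g ∉ x.asHomogeneousIdeal) (f : 𝒜 N) :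
    CohB1.genLocus _ (degHom 𝒜 f) = Proj.basicOpen 𝒜 (f : A) := by
  refine le_antisymm (fun x hx => ?_) ((isFrame_iff_le_genLocus _ _).1 (isFrame_degHom f))
  obtain ⟨g, hg, hxg⟩ := hcov x
  let V : (Proj 𝒜).Opens := CohB1.genLocus _ (degHom 𝒜 f) ⊓ Proj.basicOpen 𝒜 g
  have hxV : x ∈ V := ⟨hx, hxg⟩
  obtain ⟨c, hc⟩ := ((isFrame_iff_le_genLocus _ V).2 inf_le_left V le_rfl).2
    (val _ (degHom 𝒜 ⟨g, hg⟩) V)
  dsimp only at hc
  rw [res_self] at hc
  have h : (((c : Twist.O (𝒜 := 𝒜) (op V)).1 ⟨x, hxV⟩).val : Twist.Loc 𝒜 x) *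
      Localization.mk (f : A) (1 : (x : ProjectiveSpectrum 𝒜).asHomogeneousIdeal.toIdeal.primeCompl) =
      Localization.mk g (1 : (x : ProjectiveSpectrum 𝒜).asHomogeneousIdeal.toIdeal.primeCompl) := by
    have h1 := congrArg (fun q : Twist.sectN (𝒜 := 𝒜) (N : ℤ) (op V) => ((q.1 ⟨x, hxV⟩).1 : Twist.Loc 𝒜 x)) hc
    dsimp only at h1
    rw [val_degHom] at h1
    rw [← h1, ← val_degHom f V ⟨x, hxV⟩]
    rfl
  by_contra hfx
  have hf : (f : A) ∈ (x : ProjectiveSpectrum 𝒜).asHomogeneousIdeal.toIdeal := not_not.1 hfx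
  have key : ∀ a : A, Localization.mk a (1 : (x : ProjectiveSpectrum 𝒜).asHomogeneousIdeal.toIdeal.primeCompl) =
      algebraMap A (Twist.Loc 𝒜 x) a := fun a => (Localization.mk_one_eq_algebraMap a)
  rw [key, key] at h
  have hg' : algebraMap A (Twist.Loc 𝒜 x) g ∈ IsLocalRing.maximalIdeal (Twist.Loc 𝒜 x) :=
    h ▸ Ideal.mul_mem_left _ _ ((IsLocalization.AtPrime.to_map_mem_maximal_iff _
      (x : ProjectiveSpectrum 𝒜).asHomogeneousIdeal.toIdeal _).2 hf)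
  exact hxg ((IsLocalization.AtPrime.to_map_mem_maximal_iff _
    (x : ProjectiveSpectrum 𝒜).asHomogeneousIdeal.toIdeal _).1 hg')

/-- `O(N)` is ample when finitely many elements of degree `N > 0` cover `Proj`. -/
theorem isAmple_twist (hN : 0 < N) (s : Finset A) (hs1 : ∀ f ∈ s, f ∈ 𝒜 N)
    (hcover : ∀ x : ProjectiveSpectrum 𝒜, ∃ g ∈ s, g ∉ x.asHomogeneousIdeal) :
    CohB1.IsAmple (Twist.twist 𝒜 (N : ℤ)) := by
  have hcov : ∀ x : ProjectiveSpectrum 𝒜, ∃ g ∈ 𝒜 N, g ∉ x.asHomogeneousIdeal := fun x => by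
    obtain ⟨g, hg, hx⟩ := hcover x
    exact ⟨g, hs1 g hg, hx⟩
  have : CompactSpace (Proj 𝒜) := by
    refine isCompact_univ_iff.1 ?_
    have e : (Set.univ : Set (Proj 𝒜)) = ⋃ g ∈ s, (Proj.basicOpen 𝒜 g : Set (Proj 𝒜)) := by
      refine (Set.eq_univ_of_forall fun x => ?_).symm
      obtain ⟨g, hg, hx⟩ := hcover x
      exact Set.mem_iUnion₂.2 ⟨g, hg, hx⟩
    rw [e]
    exact s.isCompact_biUnion fun g hg => (Proj.isAffineOpen_basicOpen 𝒜 g (hs1 g hg) hN).isCompact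
  refine isAmple_iff.2 ⟨fun x => ?_, inferInstance, fun x => ?_⟩
  · obtain ⟨g, hg, hxg⟩ := hcov x
    refine ⟨Proj.basicOpen 𝒜 g, hxg, ?_⟩
    have e := powUnit 𝒜 hg 1
    rw [one_mul] at e
    exact nonempty_twist_restrict_iso (U := Proj.basicOpen 𝒜 g) e
  · obtain ⟨g, hg, hxg⟩ := hcov x
    refine ⟨_, mem_genSet_one (degHom 𝒜 ⟨g, hg⟩), ?_, ?_⟩ <;> rw [genLocus_degHom hcov]
    · exact hxg
    · exact Proj.isAffineOpen_basicOpen 𝒜 g hg hN

end Groth.Agent.TwistGen95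

end
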