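import Groth.Prelude.Def_Twist2
import Groth.Prelude.Def_ProjUP
import Mathlib.Algebra.Category.ModuleCat.Stalk
import Mathlib.RingTheory.Adjoin.Basic
import Mathlib.Algebra.Algebra.Operations

/-!
The criterion for `O(n)` on `Proj` to be generated by the sections `b / 1`.
-/

universe u

open CategoryTheory AlgebraicGeometry Opposite TopologicalSpace

noncomputable section

namespace Groth.Agent.TwistGen95

variable {R A : Type u} [CommRing R] [CommRing A] [Algebra R A] {𝒜 : ℕ → Submodule R A} [GradedAlgebra 𝒜]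

/-- The section `a / s` of `O(n)` on `U ⊆ D₊(s)`. -/
def frac (n : ℕ) (j : ℕ) (s : 𝒜 j) (U : Opens (ProjectiveSpectrum.top 𝒜))
    (hs : ∀ x : U, s.1 ∉ x.1.asHomogeneousIdeal) :
    𝒜 (j + n) →+ Twist.sectN (𝒜 := 𝒜) (n : ℤ) (op U) where
  toFun a := ⟨fun x => ⟨Localization.mk a.1 ⟨s.1, hs x⟩,
      Submodule.subset_span ⟨j + n, j, a, s, hs x, by push_cast; rfl, rfl⟩⟩,
    fun x => ⟨U, x.2, 𝟙 _, j + n, j, a, s, hs, Or.inl (by push_cast; rfl), fun _ => rfl⟩⟩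
  map_zero' := Subtype.ext <| funext fun x => Subtype.ext (by simp [Localization.mk_zero])
  map_add' a b := Subtype.ext <| funext fun x => Subtype.ext (by
    simp only [Submodule.coe_add, Pi.add_apply]
    exact (Localization.add_mk_self a.1 ⟨s.1, hs x⟩ b.1).symm)

/-- `O(n)` is generated by the `b / 1` as soon as `𝒜 (j + n) = 𝒜 j * 𝒜 n` for suitable denominators. -/
theorem generatedBy (n : ℕ)
    (h : ∀ (x : ProjectiveSpectrum 𝒜) (i j : ℕ) (a : 𝒜 i) (s : 𝒜 j), s.1 ∉ x.asHomogeneousIdeal →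
      i = j + n → ∃ (k : ℕ) (t : 𝒜 k), t.1 ∉ x.asHomogeneousIdeal ∧ a.1 * t.1 ∈ 𝒜 (k + j) * 𝒜 n) :
    ProjUP.GeneratedBy (Twist.twist 𝒜 (n : ℤ))
      (fun b : 𝒜 n => (Twist.globalOf 𝒜 b : ProjUP.Γm (Twist.twist 𝒜 (n : ℤ)))) := by
  intro x
  rw [eq_top_iff]
  rintro g -
  obtain ⟨U, hxU, σ, rfl⟩ := TopCat.Presheaf.exists_germ_eq (Twist.twist 𝒜 (n : ℤ)).presheaf g
  obtain ⟨V, hxV, iV, i, j, a, s, hs, hij, hσ⟩ := (σ : Twist.sectN (𝒜 := 𝒜) (n : ℤ) (op U)).2 ⟨x, hxU⟩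
  have hres := TopCat.Presheaf.germ_res_apply (Twist.twist 𝒜 (n : ℤ)).presheaf iV x hxV σ
  rw [← hres]
  rcases hij with hij | ha
  swap
  · have h0 : (Twist.twist 𝒜 (n : ℤ)).presheaf.map iV.op σ = 0 := by
      refine Subtype.ext (funext fun y => Subtype.ext ?_)
      exact (hσ y).trans (by rw [ha, Localization.mk_zero]; rfl)
    erw [h0, map_zero]
    exact zero_mem _
  have hij' : i = j + n := by exact_mod_cast hij
  subst hij'
  obtain ⟨k, t, ht, hat⟩ := h x _ j a s (hs ⟨x, hxV⟩) rfl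
  let W : Opens (ProjectiveSpectrum.top 𝒜) := V ⊓ ProjectiveSpectrum.basicOpen 𝒜 t.1
  have hxW : x ∈ W := ⟨hxV, ht⟩
  let u : 𝒜 (k + j) := ⟨t.1 * s.1, SetLike.mul_mem_graded t.2 s.2⟩
  have hu : ∀ y : W, u.1 ∉ y.1.asHomogeneousIdeal := fun y hy =>
    (y.1.isPrime.mem_or_mem hy).elim y.2.2 (hs ⟨y.1, y.2.1⟩)
  have hat' : a.1 * t.1 ∈ 𝒜 (k + j + n) := by
    rw [show k + j + n = (j + n) + k by omega]
    exact SetLike.mul_mem_graded a.2 t.2
  have hW : (Twist.twist 𝒜 (n : ℤ)).presheaf.map (homOfLE (inf_le_left : W ≤ V)).op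
      ((Twist.twist 𝒜 (n : ℤ)).presheaf.map iV.op σ) = frac n (k + j) u W hu ⟨a.1 * t.1, hat'⟩ := by
    refine Subtype.ext (funext fun y => Subtype.ext ?_)
    refine (hσ ⟨y.1, y.2.1⟩).trans ?_
    change Localization.mk a.1 _ = Localization.mk (a.1 * t.1) _
    rw [Localization.mk_eq_mk_iff, Localization.r_iff_exists]
    exact ⟨1, by simp only [u, OneMemClass.coe_one, one_mul]; ring⟩
  rw [← TopCat.Presheaf.germ_res_apply (Twist.twist 𝒜 (n : ℤ)).presheaf (homOfLE (inf_le_left : W ≤ V)) x hxW]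
  erw [hW]
  generalize a.1 * t.1 = c at hat' hat ⊢
  clear hW
  induction hat using Submodule.mul_induction_on' with
  | mem_mul_mem p hp q hq =>
    let c' : Twist.O (𝒜 := 𝒜) (op W) :=
      ⟨fun y => HomogeneousLocalization.mk ⟨k + j, ⟨p, hp⟩, u, hu y⟩,
        fun y => ⟨W, y.2, 𝟙 _, k + j, ⟨p, hp⟩, u, hu, fun _ => rfl⟩⟩
    have h1 : frac n (k + j) u W hu ⟨p * q, hat'⟩ =
        c' • Twist.resN (n : ℤ) (homOfLE (le_top : W ≤ ⊤)).op (Twist.globalOf 𝒜 ⟨q, hq⟩) := by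
      refine Subtype.ext (funext fun y => Subtype.ext ?_)
      refine Eq.trans ?_ (Twist.coe_smul_val (n : ℤ) y.1 (c'.1 y) _).symm
      change Localization.mk (p * q) _ = Localization.mk p _ * Localization.mk q _
      rw [Localization.mk_mul, Localization.mk_eq_mk_iff, Localization.r_iff_exists]
      exact ⟨1, by simp⟩
    rw [h1]
    erw [PresheafOfModules.germ_smul]
    refine Submodule.smul_mem _ _ (Submodule.subset_span ⟨⟨q, hq⟩, ?_⟩)
    exact (TopCat.Presheaf.germ_res_apply (Twist.twist 𝒜 (n : ℤ)).presheaf (homOfLE (le_top : W ≤ ⊤)) x hxW _).symm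
  | add p hp q hq ihp ihq =>
    have hmem : ∀ r, r ∈ 𝒜 (k + j) * 𝒜 n → r ∈ 𝒜 (k + j + n) := fun r hr =>
      (Submodule.mul_le.mpr fun _ h1 _ h2 => SetLike.mul_mem_graded h1 h2) hr
    have h2 : (⟨p + q, hat'⟩ : 𝒜 (k + j + n)) = ⟨p, hmem p hp⟩ + ⟨q, hmem q hq⟩ := rfl
    rw [h2, map_add]
    erw [map_add]
    exact add_mem (ihp (hmem p hp)) (ihq (hmem q hq))

theorem generatedBy_of_cover (n : ℕ) (h : ∀ x : ProjectiveSpectrum 𝒜, ∃ b ∈ 𝒜 n, b ∉ x.asHomogeneousIdeal) :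
    ProjUP.GeneratedBy (Twist.twist 𝒜 (n : ℤ))
      (fun b : 𝒜 n => (Twist.globalOf 𝒜 b : ProjUP.Γm (Twist.twist 𝒜 (n : ℤ)))) := by
  refine generatedBy n fun x i j a s _ hij => ?_
  obtain ⟨b, hb, hbx⟩ := h x
  refine ⟨n, ⟨b, hb⟩, hbx, Submodule.mul_mem_mul ?_ hb⟩
  subst hij
  rw [Nat.add_comm n j]
  exact a.2

end Groth.Agent.TwistGen95

end
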