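import Groth.Agent.EGA73.Tensor
import Groth.Agent.EGA73.TwistInvertible

/-!
Degree `l = lcm` covers `Proj` of an algebra generated by homogeneous elements of positive degree.
-/

universe u

open CategoryTheory Limits AlgebraicGeometry TopologicalSpace Opposite GrTilde

noncomputable section

namespace Groth.Agent.TwistGen95

open EGA73

variable {R A : Type u} [CommRing R] [CommRing A] [Algebra R A] {𝒜 : ℕ → Submodule R A} [GradedAlgebra 𝒜]
  {s : ℕ} (f : Fin s → A) (deg : Fin s → ℕ) (hdeg : ∀ i, 0 < deg i) (hf : ∀ i, f i ∈ 𝒜 (deg i))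
  (hgen : Algebra.adjoin R (Set.range f) = ⊤)

include hdeg in
theorem lcm_pos : 0 < Finset.univ.lcm deg := by
  refine Nat.pos_of_ne_zero fun h => ?_
  obtain ⟨i, -, hi⟩ := Finset.lcm_eq_zero_iff.mp h
  exact (hdeg i).ne' hi

include hdeg hf hgen in
theorem exists_notMem_lcm (x : ProjectiveSpectrum 𝒜) :
    ∃ g ∈ 𝒜 (Finset.univ.lcm deg), g ∉ x.asHomogeneousIdeal := by
  classical
  have hdvd : ∀ i, deg i ∣ Finset.univ.lcm deg := fun i => Finset.dvd_lcm (Finset.mem_univ i)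
  have hg : ∀ i, f i ^ (Finset.univ.lcm deg / deg i) ∈ 𝒜 (Finset.univ.lcm deg) := fun i => by
    simpa [smul_eq_mul, Nat.div_mul_cancel (hdvd i)] using
      SetLike.pow_mem_graded (Finset.univ.lcm deg / deg i) (hf i)
  by_contra hc
  push Not at hc
  have hc' : ∀ i, f i ∈ x.asHomogeneousIdeal := fun i => x.isPrime.mem_of_pow_mem _ (hc _ (hg i))
  refine x.not_irrelevant_le fun c hc0 => ?_
  have hdiff : ∀ b : A, b - GradedRing.projZeroRingHom 𝒜 b ∈ x.asHomogeneousIdeal.toIdeal := by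
    intro b
    have hb : b ∈ Algebra.adjoin R (Set.range f) := hgen ▸ Algebra.mem_top
    induction hb using Algebra.adjoin_induction with
    | mem b hb =>
      obtain ⟨i, rfl⟩ := hb
      rw [GradedRing.projZeroRingHom_apply, DirectSum.decompose_of_mem_ne 𝒜 (hf i) (hdeg i).ne', sub_zero]
      exact hc' i
    | algebraMap r =>
      rw [GradedRing.projZeroRingHom_apply,
        DirectSum.decompose_of_mem_same 𝒜 (SetLike.algebraMap_mem_graded 𝒜 r), sub_self]
      exact zero_mem _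
    | add a b _ _ ha hb => rw [map_add, add_sub_add_comm]; exact add_mem ha hb
    | mul a b _ _ ha hb =>
      rw [map_mul, show a * b - GradedRing.projZeroRingHom 𝒜 a * GradedRing.projZeroRingHom 𝒜 b =
        (a - GradedRing.projZeroRingHom 𝒜 a) * b + GradedRing.projZeroRingHom 𝒜 a *
          (b - GradedRing.projZeroRingHom 𝒜 b) by ring]
      exact add_mem (Ideal.mul_mem_right _ _ ha) (Ideal.mul_mem_left _ _ hb)
  have h0 := hdiff c
  rw [GradedRing.projZeroRingHom_apply, ← GradedRing.proj_apply,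
    (HomogeneousIdeal.mem_irrelevant_iff 𝒜 c).mp hc0, sub_zero] at h0
  exact h0

include hdeg hf hgen in
theorem nonempty_tensor_twist_lcm (a n : ℤ) :
    Nonempty (CohB1.tensorMod (Twist.twist 𝒜 (a * (Finset.univ.lcm deg : ℕ))) (Twist.twist 𝒜 n) ≅
      Twist.twist 𝒜 (a * (Finset.univ.lcm deg : ℕ) + n)) := by
  have hcov : ∀ x : ProjectiveSpectrum.top 𝒜, ∃ U : Opens (ProjectiveSpectrum.top 𝒜),
      x ∈ U ∧ Nonempty (TwistUnit (𝒜 := 𝒜) (a * (Finset.univ.lcm deg : ℕ)) U) := fun x => by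
    obtain ⟨g, hg, hxg⟩ := exists_notMem_lcm f deg hdeg hf hgen x
    exact ⟨ProjectiveSpectrum.basicOpen 𝒜 g, hxg, ⟨powUnit 𝒜 hg a⟩⟩
  rw [add_comm (a * (Finset.univ.lcm deg : ℕ) : ℤ) n]
  exact ⟨tensComm _ _ ≪≫ tensIso (twistIsoTilde 𝒜 n) (Iso.refl _) ≪≫ mulIso n _ hcov ≪≫
    (twistIsoTilde 𝒜 _).symm⟩

end Groth.Agent.TwistGen95

end
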