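import Groth.Agent.TwistGen95.Ample
import Groth.Agent.WC97.Fixed
import Groth.Agent.EGA73.ImmersionPn
import Groth.Prelude.Def_Twist2
import Mathlib.AlgebraicGeometry.ProjectiveSpectrum.Proper

/-!
Closed immersions of `Proj` into a projective space by finitely many elements of degree `N`.
-/

universe u

open CategoryTheory CategoryTheory.Limits AlgebraicGeometry Opposite TopologicalSpace HomogeneousLocalization

noncomputable section

namespace Groth.Agent.TwistGen95

open Amp73 Var76.LineBundle Var76.ZeroScheme EGA73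

variable {R A : Type u} [CommRing R] [CommRing A] [Algebra R A] (𝒜 : ℕ → Submodule R A) [GradedAlgebra 𝒜]

/-- The constants of `(A_g)₀`. -/
def cst (g : A) : R →+* Away 𝒜 g :=
  (fromZeroRingHom 𝒜 (Submonoid.powers g)).comp (algebraMap R (𝒜 0))

/-- The structure map to `Spec R`. -/
def structMap : Proj 𝒜 ⟶ Spec (CommRingCat.of R) :=
  Proj.toSpecZero 𝒜 ≫ Spec.map (CommRingCat.ofHom (algebraMap R (𝒜 0)))

variable {𝒜}

theorem constOn_eq {N : ℕ} {g : A} (hg : g ∈ 𝒜 N) (hN : 0 < N) (r : R) :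
    ProjUniv.constOn (structMap 𝒜) (Proj.basicOpen 𝒜 g) r = Proj.awayToSection 𝒜 g (cst 𝒜 g r) := by
  let W : (Proj 𝒜).Opens := Proj.basicOpen 𝒜 g
  have e : W.ι ≫ Proj.toSpecZero 𝒜 = W.toSpecΓ ≫ Spec.map (Proj.awayToSection 𝒜 g) ≫
      Spec.map (CommRingCat.ofHom (fromZeroRingHom 𝒜 _)) := by
    rw [show W.ι = _ from ProjMor.basicOpen_ι_eq hg hN, Category.assoc, Category.assoc, Proj.awayι_toSpecZero]
  have h : CommRingCat.ofHom (ProjUniv.constOn (structMap 𝒜) W) =
      CommRingCat.ofHom (cst 𝒜 g) ≫ Proj.awayToSection 𝒜 g := by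
    apply ProjMor.toSpecΓ_ext (W := W)
    rw [ProjUniv.toSpecΓ_constOn, structMap, reassoc_of% e]
    simp only [cst, CommRingCat.ofHom_comp, Spec.map_comp, Category.assoc]
  exact congr($h r)

/-- The fraction `h / g` takes the section of `g` to the section of `h`. -/
theorem away_smul_degHom {N : ℕ} (g h : 𝒜 N) :
    (Proj.awayToSection 𝒜 g.1) (HomogeneousLocalization.mk ⟨N, h, g, ⟨1, pow_one _⟩⟩) •
        res (Twist.twist 𝒜 (N : ℤ)) (le_top : Proj.basicOpen 𝒜 g.1 ≤ ⊤) (Twist.globalOf 𝒜 g) =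
      res (Twist.twist 𝒜 (N : ℤ)) le_top (Twist.globalOf 𝒜 h) := by
  refine Subtype.ext (funext fun x => Subtype.ext ?_)
  refine (Twist.coe_smul_val _ _ _ _).trans ?_
  show _ * Localization.mk g.1 _ = Localization.mk h.1 _
  refine Eq.trans (congrArg (· * _) (ProjectiveSpectrum.Proj.awayToSection_apply 𝒜 g.1 _ x)) ?_
  rw [HomogeneousLocalization.val_mk, Localization.mk_eq_mk', IsLocalization.map_mk',
    ← Localization.mk_eq_mk', Localization.mk_mul, Localization.mk_eq_mk_iff, Localization.r_iff_exists]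
  exact ⟨1, by simp [mul_comm]⟩

/-- The subring generated by the constants and the fractions `b j' / b j`. -/
def ratioRing {N : ℕ} {J : Type*} (b : J → 𝒜 N) (j : J) : Subring (Away 𝒜 (b j).1) :=
  Subring.closure (Set.range (cst 𝒜 (b j).1) ∪
    Set.range fun j' => HomogeneousLocalization.mk ⟨N, b j', b j, ⟨1, pow_one _⟩⟩)

theorem exists_closedImmersion_of_ratios {N : ℕ} (hN : 0 < N) [Algebra.FiniteType R A]
    (h0 : Function.Surjective (algebraMap R (𝒜 0))) {J : Type u} [Finite J] (b : J → 𝒜 N)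
    (h : ∀ x : ProjectiveSpectrum 𝒜, ∃ j, (b j).1 ∉ x.asHomogeneousIdeal ∧ ratioRing b j = ⊤) :
    ∃ (M : ℕ) (i : Proj 𝒜 ⟶ CohB1.ProjSpaceOver M (Spec (CommRingCat.of R))), IsClosedImmersion i ∧
      i ≫ pullback.snd (CohB1.ProjSpace.toSpec M (ULift.{u} ℤ))
          (specULiftZIsTerminal.from (Spec (CommRingCat.of R))) = structMap 𝒜 ∧
      Nonempty (Twist.twist 𝒜 (N : ℤ) ≅
        (Scheme.Modules.pullback i).obj (Twist.twistOver M (Spec (CommRingCat.of R)) 1)) := by
  have hcov : ∀ x : ProjectiveSpectrum 𝒜, ∃ g ∈ 𝒜 N, g ∉ x.asHomogeneousIdeal := fun x => by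
    obtain ⟨j, hj, -⟩ := h x
    exact ⟨_, (b j).2, hj⟩
  have hinv : PicF.IsInvertible (Twist.twist 𝒜 (N : ℤ)) := fun x => by
    obtain ⟨g, hg, hxg⟩ := hcov x
    refine ⟨Proj.basicOpen 𝒜 g, hxg, ?_⟩
    have e := powUnit 𝒜 hg 1
    rw [one_mul] at e
    exact nonempty_twist_restrict_iso (U := Proj.basicOpen 𝒜 g) e
  let M := Twist.twist 𝒜 (N : ℤ)
  let u : J → ProjUP.Γm M := fun j => Twist.globalOf 𝒜 (b j)
  have hloc : ∀ j, CohB1.genLocus M (Var76.Frames.ofSection M (u j)) = Proj.basicOpen 𝒜 (b j).1 :=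
    fun j => genLocus_degHom hcov (b j)
  have key : RelAmple.IsRelVeryAmplePn (structMap 𝒜) M := by
    refine ImmersionPn.isRelVeryAmplePn_of_sections (structMap 𝒜) M hinv u fun z => ?_
    obtain ⟨j, hjz, hj⟩ := h z
    refine ⟨j, ⊤, isAffineOpen_top _, le_top, (hloc j).ge hjz,
      (hloc j).symm ▸ Proj.isAffineOpen_basicOpen 𝒜 _ (b j).2 hN, ?_⟩
    have main : ∀ (G : (Proj 𝒜).Opens) (_ : G = Proj.basicOpen 𝒜 (b j).1) (hle : G ≤ structMap 𝒜 ⁻¹ᵁ ⊤),
        Subring.closure (Set.range ((structMap 𝒜).appLE ⊤ G hle) ∪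
          {a | ∃ j', a • res M (le_top : G ≤ ⊤) (u j) = res M (le_top : G ≤ ⊤) (u j')}) = ⊤ := by
      rintro G rfl hle
      refine eq_top_iff.2 fun a _ => ?_
      obtain ⟨w, rfl⟩ := (ConcreteCategory.bijective_of_isIso
        (Proj.basicOpenIsoAway 𝒜 (b j).1 (b j).2 hN).hom).surjective a
      have hw : w ∈ ratioRing b j := hj ▸ Subring.mem_top w
      show Proj.awayToSection 𝒜 (b j).1 w ∈ _
      suffices ratioRing b j ≤ Subring.comap (Proj.awayToSection 𝒜 (b j).1).hom
          (Subring.closure (Set.range ((structMap 𝒜).appLE ⊤ _ hle) ∪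
            {a | ∃ j', a • res M (le_top : Proj.basicOpen 𝒜 (b j).1 ≤ ⊤) (u j) =
              res M (le_top : Proj.basicOpen 𝒜 (b j).1 ≤ ⊤) (u j')})) from this hw
      rw [ratioRing, Subring.closure_le]
      rintro c (⟨r, rfl⟩ | ⟨j', rfl⟩)
      · refine Subring.subset_closure (Or.inl ⟨(Scheme.ΓSpecIso (CommRingCat.of R)).inv r, ?_⟩)
        exact constOn_eq (b j).2 hN r
      · exact Subring.subset_closure (Or.inr ⟨j', away_smul_degHom (b j) (b j')⟩)
    exact main _ (hloc j) le_top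
  obtain ⟨m, i, hi, hif, hψ⟩ := key
  refine ⟨m, i, ?_, hif, hψ⟩
  have : IsScalarTower R (𝒜 0) A := ⟨fun r a x => smul_mul_assoc r (a : A) x⟩
  have : Algebra.FiniteType (𝒜 0) A := Algebra.FiniteType.of_restrictScalars_finiteType R (𝒜 0) A
  have : IsClosedImmersion (Spec.map (CommRingCat.ofHom (algebraMap R (𝒜 0)))) :=
    IsClosedImmersion.spec_of_surjective _ h0
  have : IsProper (structMap 𝒜) := by delta structMap; infer_instance
  have : IsProper (i ≫ CohB1.ProjSpaceOver.toBase m (Spec (CommRingCat.of R))) := by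
    rw [show i ≫ CohB1.ProjSpaceOver.toBase m (Spec (CommRingCat.of R)) = structMap 𝒜 from hif]; infer_instance
  have := (WC97.isProper_toBase m (Spec (CommRingCat.of R))).toIsSeparated
  have : IsProper i := IsProper.of_comp i (CohB1.ProjSpaceOver.toBase m (Spec (CommRingCat.of R)))
  exact IsClosedImmersion.of_isPreimmersion i i.isClosedMap.isClosed_range

variable {s : ℕ} (f : Fin s → A) (deg : Fin s → ℕ) (hdeg : ∀ i, 0 < deg i) (hf : ∀ i, f i ∈ 𝒜 (deg i))
  (hgen : Algebra.adjoin R (Set.range f) = ⊤)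

/-- The monomial in the generators. -/
def mono (e : Fin s → ℕ) : A := ∏ i, f i ^ e i

include hf in
theorem mono_mem (e : Fin s → ℕ) : mono f e ∈ 𝒜 (∑ i, e i * deg i) :=
  SetLike.prod_mem_graded (A := 𝒜) _ _ fun i _ => by simpa using SetLike.pow_mem_graded (e i) (hf i)

theorem mono_add (e e' : Fin s → ℕ) : mono f (e + e') = mono f e * mono f e' := by
  simp [mono, pow_add, Finset.prod_mul_distrib]

include hf hgen in
theorem mem_span_mono (m : ℕ) (z : A) (hz : z ∈ 𝒜 m) :
    z ∈ Submodule.span R (mono f '' {e | ∑ i, e i * deg i = m}) := by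
  classical
  suffices ∀ z : A, GradedRing.proj 𝒜 m z ∈ Submodule.span R (mono f '' {e | ∑ i, e i * deg i = m}) by
    simpa [GradedRing.proj_apply, DirectSum.decompose_of_mem_same 𝒜 hz] using this z
  intro z
  have hz' : z ∈ Algebra.adjoin R (Set.range f) := hgen ▸ Algebra.mem_top
  rw [Algebra.adjoin_range_eq_range_aeval] at hz'
  obtain ⟨p, rfl⟩ := hz'
  induction p using MvPolynomial.induction_on' with
  | add p q hp hq => simpa only [map_add] using add_mem hp hq
  | monomial e a =>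
    have he : (MvPolynomial.aeval f) (MvPolynomial.monomial e a) = a • mono f e := by
      rw [MvPolynomial.aeval_monomial, Algebra.smul_def, mono, Finsupp.prod_fintype _ _ fun i => pow_zero _]
    show GradedRing.proj 𝒜 m ((MvPolynomial.aeval f) (MvPolynomial.monomial e a)) ∈ _
    rw [he, GradedRing.proj_apply]
    rcases eq_or_ne (∑ i, e i * deg i) m with h | h
    · rw [DirectSum.decompose_of_mem_same 𝒜 (Submodule.smul_mem _ a (h ▸ mono_mem f deg hf e))]
      exact Submodule.smul_mem _ a (Submodule.subset_span ⟨_, h, rfl⟩)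
    · rw [DirectSum.decompose_of_mem_ne 𝒜 (Submodule.smul_mem _ a (mono_mem f deg hf e)) h]
      exact zero_mem _

include hdeg hf hgen in
theorem surjective_algebraMap_zero : Function.Surjective (algebraMap R (𝒜 0)) := by
  classical
  intro z
  have h := mem_span_mono f deg hf hgen 0 z.1 z.2
  have hz : mono f '' {e | ∑ i, e i * deg i = 0} ⊆ {1} := by
    rintro _ ⟨e, he, rfl⟩
    refine Finset.prod_eq_one fun i _ => ?_
    have := (Finset.sum_eq_zero_iff.mp he) i (Finset.mem_univ i)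
    rw [(Nat.mul_eq_zero.mp this).resolve_right (hdeg i).ne', pow_zero]
  obtain ⟨r, hr⟩ := Submodule.mem_span_singleton.mp (Submodule.span_mono hz h)
  refine ⟨r, Subtype.ext ?_⟩
  rw [← hr, SetLike.GradeZero.coe_algebraMap, Algebra.algebraMap_eq_smul_one]

/-- The monomials of degree `N`. -/
def Monos (deg : Fin s → ℕ) (N : ℕ) : Type u :=
  ULift.{u} {e : Fin s → Fin (N + 1) // ∑ i, (e i : ℕ) * deg i = N}

instance (N : ℕ) : Finite (Monos.{u} deg N) := Finite.of_equiv _ Equiv.ulift.symm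

/-- The monomials of degree `N`, as elements of `𝒜 N`. -/
def monos (N : ℕ) (j : Monos.{u} deg N) : 𝒜 N :=
  ⟨mono f fun i => j.down.1 i, j.down.2.subst (motive := fun n => mono f (fun i => (j.down.1 i : ℕ)) ∈ 𝒜 n)
    (mono_mem f deg hf _)⟩

include hdeg in
theorem exists_monos {N : ℕ} (e : Fin s → ℕ) (he : ∑ i, e i * deg i = N) :
    ∃ j : Monos.{u} deg N, (monos (𝒜 := 𝒜) f deg hf N j).1 = mono f e := by
  have hle : ∀ i, e i < N + 1 := fun i => Nat.lt_succ_of_le <| he ▸
    (Nat.le_mul_of_pos_right _ (hdeg i)).trans (Finset.single_le_sum (f := fun i => e i * deg i)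
      (fun _ _ => Nat.zero_le _) (Finset.mem_univ i))
  exact ⟨⟨⟨fun i => ⟨e i, hle i⟩, he⟩⟩, rfl⟩

include hdeg hgen in
theorem exists_monos_notMem {N : ℕ} (x : ProjectiveSpectrum 𝒜) (h : ∃ g ∈ 𝒜 N, g ∉ x.asHomogeneousIdeal) :
    ∃ j : Monos.{u} deg N, (monos f deg hf N j).1 ∉ x.asHomogeneousIdeal := by
  by_contra hc
  push Not at hc
  obtain ⟨g, hg, hgx⟩ := h
  refine hgx (Submodule.span_induction (p := fun z _ => z ∈ x.asHomogeneousIdeal) ?_ (zero_mem _)
    (fun _ _ _ _ => add_mem) (fun r z _ hz => ?_) (mem_span_mono f deg hf hgen N g hg))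
  · rintro _ ⟨e, he, rfl⟩
    obtain ⟨j, hj⟩ := exists_monos (𝒜 := 𝒜) f deg hdeg hf e he
    exact hj ▸ hc j
  · rw [Algebra.smul_def]
    exact Ideal.mul_mem_left _ _ hz

include hgen in
theorem ratioRing_eq_top {N : ℕ} (j : Monos.{u} deg N)
    (h : ∀ (k : ℕ) (e : Fin s → ℕ), ∑ i, e i * deg i = k * N → ∀ hz,
      Away.mk 𝒜 (monos f deg hf N j).2 k (mono f e) hz ∈ ratioRing (monos f deg hf N) j) :
    ratioRing (monos f deg hf N) j = ⊤ := by
  refine eq_top_iff.2 fun w _ => ?_
  obtain ⟨k, z, hz, rfl⟩ := Away.mk_surjective 𝒜 (monos f deg hf N j).2 w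
  suffices ∃ hz', Away.mk 𝒜 (monos f deg hf N j).2 k z hz' ∈ ratioRing (monos f deg hf N) j from this.2
  have hsp := mem_span_mono f deg hf hgen (k • N) z hz
  clear * - hsp h
  induction hsp using Submodule.span_induction with
  | mem z hz =>
    obtain ⟨e, he, rfl⟩ := hz
    have he' : ∑ i, e i * deg i = k • N := he
    exact ⟨he' ▸ mono_mem f deg hf e, h k e he _⟩
  | zero =>
    refine ⟨zero_mem _, ?_⟩
    convert zero_mem (ratioRing (monos f deg hf N) j)
    apply val_injective
    simp [Away.val_mk, Localization.mk_zero]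
  | add a b _ _ ha hb =>
    obtain ⟨ha', ha⟩ := ha
    obtain ⟨hb', hb⟩ := hb
    refine ⟨add_mem ha' hb', ?_⟩
    convert add_mem ha hb
    apply val_injective
    simp only [val_add, Away.val_mk, Localization.add_mk_self]
  | smul r a _ ha =>
    obtain ⟨ha', ha⟩ := ha
    refine ⟨Submodule.smul_mem _ r ha', ?_⟩
    have hc : cst 𝒜 (monos f deg hf N j).1 r ∈ ratioRing (monos f deg hf N) j :=
      Subring.subset_closure (Or.inl ⟨r, rfl⟩)
    suffices e : Away.mk 𝒜 (monos f deg hf N j).2 k (r • a) (Submodule.smul_mem _ r ha') =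
        cst 𝒜 (monos f deg hf N j).1 r * Away.mk 𝒜 (monos f deg hf N j).2 k a ha' from e ▸ mul_mem hc ha
    apply val_injective
    simp only [val_mul, Away.val_mk]
    show _ = (HomogeneousLocalization.mk _).val * _
    rw [val_mk, Localization.mk_mul, Localization.mk_eq_mk_iff, Localization.r_iff_exists]
    exact ⟨1, by simp [Algebra.smul_def]⟩

include hdeg in
theorem exists_split {l : ℕ} (a k : ℕ) (hl : ∀ i, deg i ∣ l) (hl0 : 0 < l) (has : s - 1 ≤ a)
    (e : Fin s → ℕ) (he : ∑ i, e i * deg i = (k + 1) * (a * l)) :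
    ∃ e', e' ≤ e ∧ ∑ i, e' i * deg i = a * l := by
  rcases eq_or_ne k 0 with rfl | hk
  · exact ⟨e, le_rfl, by simpa using he⟩
  let c := fun i => l / deg i
  have hc : ∀ i, c i * deg i = l := fun i => Nat.div_mul_cancel (hl i)
  have hc0 : ∀ i, 0 < c i := fun i => Nat.div_pos (Nat.le_of_dvd hl0 (hl i)) (hdeg i)
  let q := fun i => e i / c i
  let r := fun i => e i % c i
  let T := ∑ i, r i * deg i
  have hsplit : ∀ i, e i * deg i = q i * l + r i * deg i := fun i => by
    conv_lhs => rw [← Nat.div_add_mod (e i) (c i)]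
    rw [add_mul, ← hc i]
    ring
  have hsum : (∑ i, q i) * l + T = (k + 1) * (a * l) := by
    rw [← he, Finset.sum_mul, ← Finset.sum_add_distrib]
    exact Finset.sum_congr rfl fun i _ => (hsplit i).symm
  have hTd : l ∣ T := (Nat.dvd_add_right (dvd_mul_left l _)).1 (hsum ▸ Dvd.intro_left ((k + 1) * a) (mul_assoc _ _ _))
  obtain ⟨t, ht⟩ := hTd
  have hts : t ≤ a := by
    rcases s.eq_zero_or_pos with hs | hs
    · subst hs
      have : l * t = 0 := ht ▸ (by simp [T])
      have := (Nat.mul_eq_zero.mp this).resolve_left hl0.ne'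
      omega
    · have hlt : T < s * l := by
        have : Nonempty (Fin s) := ⟨⟨0, hs⟩⟩
        calc T < ∑ _i : Fin s, l := Finset.sum_lt_sum_of_nonempty Finset.univ_nonempty fun i _ => by
              rw [← hc i]
              exact mul_lt_mul_of_pos_right (Nat.mod_lt _ (hc0 i)) (hdeg i)
          _ = s * l := by simp
      rw [ht, mul_comm l t] at hlt
      have := Nat.lt_of_mul_lt_mul_right hlt
      omega
  have hq : a - t ≤ ∑ i, q i := by
    rw [ht, mul_comm l t, ← add_mul, ← mul_assoc] at hsum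
    have h1 := Nat.eq_of_mul_eq_mul_right hl0 hsum
    have h2 : a ≤ (k + 1) * a := Nat.le_mul_of_pos_left _ k.succ_pos
    omega
  have hpick : ∀ m, m ≤ ∑ i, q i → ∃ q' : Fin s → ℕ, q' ≤ q ∧ ∑ i, q' i = m := by
    intro m
    induction m with
    | zero => exact fun _ => ⟨0, fun _ => Nat.zero_le _, by simp⟩
    | succ m ih =>
      intro hm
      obtain ⟨q', hle, hq'⟩ := ih (Nat.le_of_succ_le hm)
      obtain ⟨i, -, hi⟩ := Finset.exists_lt_of_sum_lt (f := q') (g := q) (s := Finset.univ) (by omega)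
      refine ⟨Function.update q' i (q' i + 1), update_le_iff.2 ⟨hi, fun j _ => hle j⟩, ?_⟩
      rw [Finset.sum_update_of_mem (Finset.mem_univ i), ← hq', Finset.sdiff_singleton_eq_erase,
        ← Finset.add_sum_erase _ q' (Finset.mem_univ i)]
      omega
  obtain ⟨q', hle, hq'⟩ := hpick _ hq
  refine ⟨fun i => q' i * c i + r i, fun i => ?_, ?_⟩
  · calc q' i * c i + r i ≤ q i * c i + r i := by gcongr; exact hle i
      _ = e i := by rw [mul_comm]; exact Nat.div_add_mod _ _
  · simp only [add_mul, mul_assoc, hc, Finset.sum_add_distrib, ← Finset.sum_mul]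
    rw [hq']
    show _ + T = _
    rw [ht, mul_comm l t, ← add_mul, Nat.sub_add_cancel hts]

include hdeg hgen in
theorem ratioRing_eq_top_of_split {l : ℕ} (a : ℕ) (hl : ∀ i, deg i ∣ l) (hl0 : 0 < l) (has : s - 1 ≤ a)
    (j : Monos.{u} deg (a * l)) : ratioRing (monos (𝒜 := 𝒜) f deg hf (a * l)) j = ⊤ := by
  refine ratioRing_eq_top f deg hf hgen j fun k => ?_
  induction k with
  | zero =>
    intro e he hz
    convert one_mem (ratioRing (monos (𝒜 := 𝒜) f deg hf (a * l)) j)
    apply val_injective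
    rw [Away.val_mk, val_one, ← Localization.mk_one]
    rw [zero_mul, Finset.sum_eq_zero_iff] at he
    have h1 : mono f e = 1 := Finset.prod_eq_one fun i _ => by
      rw [(Nat.mul_eq_zero.mp (he i (Finset.mem_univ i))).resolve_right (hdeg i).ne', pow_zero]
    rw [Localization.mk_eq_mk_iff, Localization.r_iff_exists]
    exact ⟨1, by simp [h1]⟩
  | succ k ih =>
    intro e he hz
    obtain ⟨e', hle, he'⟩ := exists_split deg hdeg a k hl hl0 has e he
    let e'' := e - e'
    have hee : e = e' + e'' := funext fun i => (Nat.add_sub_cancel' (hle i)).symm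
    have he'' : ∑ i, e'' i * deg i = k * (a * l) := by
      rw [hee] at he
      simp only [Pi.add_apply, add_mul, Finset.sum_add_distrib, he', one_mul] at he
      omega
    obtain ⟨j', hj'⟩ := exists_monos (𝒜 := 𝒜) f deg hdeg hf e' he'
    have hz'' : mono f e'' ∈ 𝒜 (k • (a * l)) := by rw [smul_eq_mul, ← he'']; exact mono_mem f deg hf e''
    have hr : HomogeneousLocalization.mk ⟨a * l, monos f deg hf (a * l) j', monos f deg hf (a * l) j,
        (⟨1, pow_one _⟩ : (monos f deg hf (a * l) j).1 ∈ Submonoid.powers (monos f deg hf (a * l) j).1)⟩ ∈ ratioRing (monos (𝒜 := 𝒜) f deg hf (a * l)) j :=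
      Subring.subset_closure (Or.inr ⟨j', rfl⟩)
    convert mul_mem hr (ih e'' he'' hz'') using 1
    apply val_injective
    rw [val_mul, val_mk, Away.val_mk, Away.val_mk, Localization.mk_mul, Localization.mk_eq_mk_iff,
      Localization.r_iff_exists]
    refine ⟨1, ?_⟩
    simp only [OneMemClass.coe_one, one_mul, Submonoid.coe_mul, hee, mono_add, hj']
    ring

include hgen in
/-- Degree one denominators and generators of degree at most `N`. -/
theorem ratioRing_eq_top_of_le {N : ℕ} (hN : 0 < N) (hle : ∀ i, deg i ≤ N) (i₀ : Fin s) (h1 : deg i₀ = 1)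
    (hdeg : ∀ i, 0 < deg i) (j : Monos.{u} deg N) (hj : (monos (𝒜 := 𝒜) f deg hf N j).1 = f i₀ ^ N) :
    ratioRing (monos (𝒜 := 𝒜) f deg hf N) j = ⊤ := by
  refine ratioRing_eq_top f deg hf hgen j fun k e he hz => ?_
  let g := (monos (𝒜 := 𝒜) f deg hf N j).1
  let L := Localization.Away g
  let v : Away 𝒜 g →+* L := algebraMap _ _
  let S := (ratioRing (monos (𝒜 := 𝒜) f deg hf N) j).map v
  suffices v (Away.mk 𝒜 (monos f deg hf N j).2 k (mono f e) hz) ∈ S by
    obtain ⟨w, hw, hwe⟩ := Subring.mem_map.mp this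
    have h2 : w.val = (Away.mk 𝒜 (monos f deg hf N j).2 k (mono f e) hz).val := hwe
    exact val_injective (Submonoid.powers g) h2 ▸ hw
  have hu : IsUnit (algebraMap A L g) := IsLocalization.Away.algebraMap_isUnit g
  have hu0 : IsUnit (algebraMap A L (f i₀)) := by
    have := hu
    simp only [g, hj, map_pow] at this
    exact (isUnit_pow_iff hN.ne').mp this
  let ι : L := ↑hu0.unit⁻¹
  have hι : algebraMap A L (f i₀) * ι = 1 := hu0.mul_val_inv
  have hgf : algebraMap A L g = algebraMap A L (f i₀) ^ N := (congrArg (algebraMap A L) hj).trans (map_pow _ _ _)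
  have hgι : algebraMap A L g * ι ^ N = 1 := by rw [hgf, ← mul_pow, hι, one_pow]
  have hval : ∀ (m : ℕ) (z : A) (hz : z ∈ 𝒜 (m • N)),
      v (Away.mk 𝒜 (monos f deg hf N j).2 m z hz) = algebraMap A L z * ι ^ (m * N) := by
    intro m z hz
    refine (hu.pow m).mul_right_cancel ?_
    show (Away.mk 𝒜 (monos f deg hf N j).2 m z hz).val * _ = _
    rw [Away.val_mk, ← map_pow, Localization.mk_eq_mk']
    refine (IsLocalization.mk'_spec L z _).trans ?_
    rw [map_pow, mul_assoc, mul_comm (ι ^ _), mul_comm m N, pow_mul, ← mul_pow, hgι, one_pow, mul_one]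
  rw [hval, ← he, mono, map_prod, ← Finset.prod_pow_eq_pow_sum, ← Finset.prod_mul_distrib]
  refine Subring.prod_mem _ fun i _ => ?_
  rw [map_pow, mul_comm (e i), pow_mul, ← mul_pow]
  refine Subring.pow_mem _ ?_ _
  let e' : Fin s → ℕ := Pi.single i 1 + Pi.single i₀ (N - deg i)
  have hs1 : ∀ (i : Fin s) (m : ℕ), ∑ k, (Pi.single i m : Fin s → ℕ) k * deg k = m * deg i := fun i m => by
    rw [Finset.sum_eq_single i (fun k _ hk => by simp [Pi.single_eq_of_ne hk]) (by simp), Pi.single_eq_same]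
  have hs2 : ∀ (i : Fin s) (m : ℕ), mono f (Pi.single i m) = f i ^ m := fun i m => by
    rw [mono, Finset.prod_eq_single i (fun k _ hk => by simp [Pi.single_eq_of_ne hk]) (by simp), Pi.single_eq_same]
  have he' : ∑ k, e' k * deg k = N := by
    simp only [e', Pi.add_apply, add_mul, Finset.sum_add_distrib, hs1, h1, one_mul, mul_one]
    exact Nat.add_sub_cancel' (hle i)
  obtain ⟨j', hj'⟩ := exists_monos (𝒜 := 𝒜) f deg hdeg hf e' he'
  refine Subring.mem_map.mpr ⟨Away.mk 𝒜 (monos f deg hf N j).2 1 (monos f deg hf N j').1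
    (by rw [one_smul]; exact (monos f deg hf N j').2), ?_, ?_⟩
  · refine Subring.subset_closure (Or.inr ⟨j', ?_⟩)
    apply val_injective
    rw [Away.val_mk]
    show (HomogeneousLocalization.mk _).val = _
    rw [val_mk, Localization.mk_eq_mk_iff, Localization.r_iff_exists]
    exact ⟨1, by simp [g]⟩
  · rw [hval, hj', mono_add, hs2, hs2, pow_one, one_mul, map_mul, map_pow]
    conv_lhs => rw [show N = deg i + (N - deg i) by have := hle i; omega, pow_add]
    rw [Nat.add_sub_cancel_left, mul_mul_mul_comm, ← mul_pow, hι, one_pow, mul_one]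

/-- A finitely generated algebra generated by `U` is generated by finitely many elements of `U`. -/
theorem exists_finset_adjoin_eq_top {U : Set A} (hU : Algebra.adjoin R U = ⊤) [Algebra.FiniteType R A] :
    ∃ T : Finset A, ↑T ⊆ U ∧ Algebra.adjoin R (T : Set A) = ⊤ := by
  classical
  obtain ⟨G, hG⟩ := ‹Algebra.FiniteType R A›.out
  have hx : ∀ x : A, ∃ T : Finset A, ↑T ⊆ U ∧ x ∈ Algebra.adjoin R (T : Set A) := by
    intro x
    have hx : x ∈ Algebra.adjoin R U := hU ▸ Algebra.mem_top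
    induction hx using Algebra.adjoin_induction with
    | mem y hy => exact ⟨{y}, by simpa using hy, Algebra.subset_adjoin (by simp)⟩
    | algebraMap r => exact ⟨∅, by simp, Subalgebra.algebraMap_mem _ r⟩
    | add a b _ _ ha hb =>
      obtain ⟨T, hT, ha⟩ := ha
      obtain ⟨T', hT', hb⟩ := hb
      exact ⟨T ∪ T', by simp [hT, hT'], add_mem (Algebra.adjoin_mono (by simp) ha) (Algebra.adjoin_mono (by simp) hb)⟩
    | mul a b _ _ ha hb =>
      obtain ⟨T, hT, ha⟩ := ha
      obtain ⟨T', hT', hb⟩ := hb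
      exact ⟨T ∪ T', by simp [hT, hT'], mul_mem (Algebra.adjoin_mono (by simp) ha) (Algebra.adjoin_mono (by simp) hb)⟩
  choose T hT hxT using hx
  refine ⟨G.biUnion T, fun y hy => ?_, eq_top_iff.2 (hG ▸ Algebra.adjoin_le fun y hy => ?_)⟩
  · obtain ⟨x, _, hyx⟩ := Finset.mem_biUnion.mp hy
    exact hT x hyx
  · exact Algebra.adjoin_mono (by exact_mod_cast Finset.subset_biUnion_of_mem T hy) (hxT y)

end Groth.Agent.TwistGen95

end
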